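import Cfsg.Prelude.Def_QuasithinSetup
import Cfsg.Agent.Lib.StrongFusion.Family
import Cfsg.Agent.Lib.SylowExtra
import Cfsg.Agent.Lib.ZStar.Main

/-!
If the normalisers of the Alperin–Goldschmidt family lie in `M`, then `M` controls strong fusion in the Sylow
subgroup.

Blueprint: `blueprint/S1847.md`.
-/

set_option autoImplicit false
set_option linter.unusedSectionVars false
set_option linter.style.haveILetI false

universe u

namespace CfsgLib.AGFusion

open Cfsg Subgroup CfsgLib.StrongFusion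

variable {G : Type u} [Group G]

/-- Some element of `M` acts on `A` as `g` does. -/
def Real (M A : Subgroup G) (g : G) : Prop := ∃ m ∈ M, ∀ a ∈ A, m * a * m⁻¹ = g * a * g⁻¹

/-- The steps realised in `M`. -/
def St (M T : Subgroup G) (n : G) : Prop := n ∈ normalizer (T : Set G) ∧ Real M T n

theorem goodSteps (M : Subgroup G) : GoodSteps (St M) := by
  refine ⟨fun _ _ h => h.1, fun T n ⟨hn, m, hm, h⟩ => ⟨inv_mem hn, m⁻¹, inv_mem hm, fun a ha => ?_⟩⟩
  have ha' : n⁻¹ * a * n ∈ T := by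
    simpa using (Subgroup.mem_normalizer_iff.mp (inv_mem hn) a).mp ha
  have h1 := h _ ha'
  rw [show n * (n⁻¹ * a * n) * n⁻¹ = a by group] at h1
  calc m⁻¹ * a * m⁻¹⁻¹ = m⁻¹ * (m * (n⁻¹ * a * n) * m⁻¹) * m := by rw [h1]; group
    _ = n⁻¹ * a * n⁻¹⁻¹ := by group

theorem real_of_chain {M A : Subgroup G} {g : G} (h : FChain (St M) A g) : Real M A g := by
  induction h with
  | one => exact ⟨1, one_mem M, fun a _ => rfl⟩
  | @step A T n g hs hA _ ih =>
    obtain ⟨m, hm, h1⟩ := hs.2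
    obtain ⟨k, hk, h2⟩ := ih
    refine ⟨k * m, mul_mem hk hm, fun a ha => ?_⟩
    calc k * m * a * (k * m)⁻¹ = k * (m * a * m⁻¹) * k⁻¹ := by group
      _ = k * (n * a * n⁻¹) * k⁻¹ := by rw [h1 a (hA ha)]
      _ = g * (n * a * n⁻¹) * g⁻¹ := h2 _ (conj_mem_cm ha)
      _ = _ := by group

variable [Finite G] (T : Sylow 2 G) {M : Subgroup G}

set_option maxHeartbeats 1000000 in
/-- The automorphisms that a fully normalised subgroup gets from its normaliser are realised in `M`. -/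
theorem real_of_full (hM : ∀ D ∈ agConjFamily (T : Subgroup G), normalizer (D : Set G) ≤ M) {V : Subgroup G}
    (hV : V ≤ (T : Subgroup G)) (hfull : Full 2 (T : Subgroup G) V)
    (big : ∀ (B : Subgroup G) (y : G), Nat.card V < Nat.card B → B ≤ (T : Subgroup G) → cm y B ≤ (T : Subgroup G) →
      FChain (St M) B y)
    {w : G} (hw : w ∈ normalizer (V : Set G)) : Real M V w := by
  haveI : Fact (Nat.Prime 2) := ⟨Nat.prime_two⟩
  by_cases hV0 : V = ⊥
  · refine ⟨1, one_mem M, fun a ha => ?_⟩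
    rw [hV0, Subgroup.mem_bot] at ha
    rw [ha]
    group
  set N := normalizer (V : Set G) with hN
  have hVN : V ≤ N := Subgroup.le_normalizer
  let Rs : Sylow 2 ↥N := ((T.2.to_le inf_le_left).of_equiv
    (Subgroup.subgroupOfEquivOfLe (inf_le_right : (T : Subgroup G) ⊓ N ≤ N)).symm).toSylow hfull
  have hRs : ∀ x : ↥N, x ∈ (Rs : Subgroup ↥N) ↔ (x : G) ∈ (T : Subgroup G) :=
    fun x => ⟨fun h => h.1, fun h => ⟨h, x.2⟩⟩
  -- bigger subgroups with a normalising element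
  have lift : ∀ (B : Subgroup ↥N) (n : ↥N), V < B.map N.subtype → B.map N.subtype ≤ (T : Subgroup G) →
      n ∈ normalizer (B : Set ↥N) → Real M V (n : G) := by
    intro B n hlt hBT hn
    have hcard : Nat.card V < Nat.card (B.map N.subtype) :=
      lt_of_le_of_ne (Subgroup.card_le_of_le hlt.le) fun e => hlt.ne (Subgroup.eq_of_le_of_card_ge hlt.le e.ge)
    have hcm : cm (n : G) (B.map N.subtype) ≤ (T : Subgroup G) := by
      rintro _ ⟨_, ⟨b, hb, rfl⟩, rfl⟩
      exact hBT ⟨_, (Subgroup.mem_normalizer_iff.mp hn b).mp hb, rfl⟩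
    obtain ⟨m, hm, h1⟩ := real_of_chain (big _ (n : G) hcard hBT hcm)
    exact ⟨m, hm, fun a ha => h1 a (hlt.le ha)⟩
  -- elements centralising `V` do not matter
  have absorb : ∀ (n c : G), (∀ v ∈ V, c * v * c⁻¹ = v) → Real M V n → Real M V (n * c) := by
    rintro n c hc ⟨m, hm, h1⟩
    exact ⟨m, hm, fun a ha => by
      rw [h1 a ha, show n * c * a * (n * c)⁻¹ = n * (c * a * c⁻¹) * n⁻¹ by group, hc a ha]⟩
  set V' := V.subgroupOf N with hV'
  haveI hV'n : V'.Normal := (Subgroup.normal_subgroupOf_iff_le_normalizer hVN).mpr le_rfl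
  have hV'R : V' ≤ (Rs : Subgroup ↥N) := fun x hx => (hRs x).mpr (hV hx)
  have hV'map : V'.map N.subtype = V := Subgroup.map_subgroupOf_eq_of_le hVN
  set CN := (centralizer (V : Set G)).subgroupOf N with hCN
  have hCNn : CN.Normal := ⟨fun c hc g => Subgroup.mem_centralizer_iff.mpr fun v hv => by
    have hv' : (g : G)⁻¹ * v * g ∈ V := by
      simpa using (Subgroup.mem_normalizer_iff.mp (inv_mem g.2) v).mp hv
    have h1 : (g : G)⁻¹ * v * g * c = c * ((g : G)⁻¹ * v * g) :=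
      Subgroup.mem_centralizer_iff.mp hc _ hv'
    show v * ((g : G) * c * (g : G)⁻¹) = (g : G) * c * (g : G)⁻¹ * v
    calc v * ((g : G) * c * (g : G)⁻¹) = g * ((g : G)⁻¹ * v * g * c) * (g : G)⁻¹ := by group
      _ = g * (c * ((g : G)⁻¹ * v * g)) * (g : G)⁻¹ := by rw [h1]
      _ = _ := by group⟩
  haveI := hCNn
  have hcen : ∀ c : ↥N, c ∈ CN → ∀ v ∈ V, (c : G) * v * (c : G)⁻¹ = v := fun c hc v hv => by
    rw [← Subgroup.mem_centralizer_iff.mp (show (c : G) ∈ centralizer (V : Set G) from hc) v hv,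
      mul_inv_cancel_right]
  let Qc : Sylow 2 ↥CN := sylowInfNormal Rs CN
  set Q := (Qc : Subgroup ↥CN).map CN.subtype with hQ
  have hQR : Q ≤ (Rs : Subgroup ↥N) := by
    rintro _ ⟨q, hq, rfl⟩
    exact hq
  have hQn : ∀ n : ↥N, n ∈ normalizer (Q : Set ↥N) → n ∈ normalizer ((V' ⊔ Q : Subgroup ↥N) : Set ↥N) := by
    intro n hn
    refine Local.mem_normalizer_of_map_conj_eq ?_
    rw [Subgroup.map_sup, Local.map_conj_eq_of_mem_normalizer hn,
      Local.map_conj_eq_of_mem_normalizer (show n ∈ normalizer (V' : Set ↥N) by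
        rw [Subgroup.normalizer_eq_top V']; trivial)]
  by_cases hVQ : V' ⊔ Q = V'
  swap
  · -- `C_T(V)` is not in `V`
    have hlt : V < (V' ⊔ Q).map N.subtype := by
      refine lt_of_le_of_ne (hV'map ▸ Subgroup.map_mono le_sup_left) fun e => hVQ ?_
      exact Subgroup.map_injective N.subtype_injective (e.symm.trans hV'map.symm)
    have hle : (V' ⊔ Q).map N.subtype ≤ (T : Subgroup G) := by
      rintro _ ⟨x, hx, rfl⟩
      exact (hRs x).mp (sup_le hV'R hQR hx)
    obtain ⟨n, hn, c, hc, e⟩ := Subgroup.mem_sup_of_normal_right.mp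
      ((Sylow.normalizer_sup_eq_top Qc).ge (Subgroup.mem_top (⟨w, hw⟩ : ↥N)))
    have e' : (n : G) * c = w := congrArg Subtype.val e
    exact e' ▸ absorb _ _ (hcen c hc) (lift _ n hlt hle (hQn n hn))
  -- `C_T(V)` lies in `V`
  have hQV : Q ≤ V' := sup_eq_left.mp hVQ
  set O := oddCore ↥N with hO
  set K := pPrimePCore 2 ↥N with hK
  haveI hKn : K.Normal := Subgroup.normal_comap _
  have hV2 : IsPGroup 2 ↥V' := Rs.2.to_le hV'R
  have hOodd : Odd (Nat.card O) := CfsgLib.odd_card_oddCore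
  have hOK : O ≤ K := fun x hx => by
    show QuotientGroup.mk' _ x ∈ pCore 2 _
    rw [show QuotientGroup.mk' (pPrimeCore 2 ↥N) x = 1 from (QuotientGroup.eq_one_iff x).mpr hx]
    exact one_mem _
  have hVK : V' ≤ K := fun x hx => by
    haveI : (V'.map (QuotientGroup.mk' (pPrimeCore 2 ↥N))).Normal :=
      hV'n.map _ (QuotientGroup.mk'_surjective _)
    exact CfsgLib.le_pCore (hV2.map _) ⟨x, hx, rfl⟩
  have hOV : ∀ o ∈ O, ∀ v ∈ V', o * v = v * o := fun o ho v hv => by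
    refine Subgroup.commute_of_normal_of_disjoint O V' inferInstance hV'n ?_ o v ho hv
    rw [disjoint_iff]
    obtain ⟨i, hi⟩ := IsPGroup.iff_card.mp hV2
    refine Subgroup.inf_eq_bot_of_coprime ?_
    rw [hi]
    exact (Nat.coprime_two_right.mpr hOodd).pow_right i
  have hOfix : ∀ o ∈ O, ∀ v ∈ V, ((o : ↥N) : G) * v * (o : G)⁻¹ = v := fun o ho v hv => by
    have h1 : (o : G) * v = v * o := congrArg Subtype.val (hOV o ho ⟨v, hVN hv⟩ hv)
    rw [h1, mul_inv_cancel_right]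
  let Es : Sylow 2 ↥K := sylowInfNormal Rs K
  set E := (Es : Subgroup ↥K).map K.subtype with hE
  have hEmem : ∀ x : ↥N, x ∈ E ↔ x ∈ (Rs : Subgroup ↥N) ∧ x ∈ K := fun x =>
    ⟨by rintro ⟨y, hy, rfl⟩; exact ⟨hy, y.2⟩, fun h => ⟨⟨x, h.2⟩, h.1, rfl⟩⟩
  have hVE : V' ≤ E := fun x hx => (hEmem x).mpr ⟨hV'R hx, hVK hx⟩
  have hKO : ∀ k ∈ K, ∃ e ∈ E, ∃ o ∈ O, k = e * o := by
    intro k hk
    obtain ⟨y, hy, hyk⟩ : QuotientGroup.mk' (pPrimeCore 2 ↥N) k ∈
        (Rs : Subgroup ↥N).map (QuotientGroup.mk' (pPrimeCore 2 ↥N)) := by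
      have h1 := CfsgLib.pCore_le_sylow (Rs.mapSurjective (QuotientGroup.mk'_surjective (pPrimeCore 2 ↥N)))
        (show QuotientGroup.mk' _ k ∈ pCore 2 _ from hk)
      rwa [Sylow.coe_mapSurjective] at h1
    have ho : y⁻¹ * k ∈ O := QuotientGroup.eq.mp hyk
    refine ⟨y, (hEmem y).mpr ⟨hy, ?_⟩, _, ho, (mul_inv_cancel_left y k).symm⟩
    show QuotientGroup.mk' _ y ∈ pCore 2 _
    rw [show QuotientGroup.mk' (pPrimeCore 2 ↥N) y = QuotientGroup.mk' (pPrimeCore 2 ↥N) k from hyk]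
    exact hk
  by_cases hEV : E = V'
  swap
  · -- `T ∩ O_{2',2}` is bigger than `V`
    have hlt : V < E.map N.subtype := by
      refine lt_of_le_of_ne (hV'map ▸ Subgroup.map_mono hVE) fun e => hEV ?_
      exact Subgroup.map_injective N.subtype_injective (e.symm.trans hV'map.symm)
    have hle : E.map N.subtype ≤ (T : Subgroup G) := by
      rintro _ ⟨x, hx, rfl⟩
      exact (hRs x).mp ((hEmem x).mp hx).1
    obtain ⟨n, hn, k, hk, e⟩ := Subgroup.mem_sup_of_normal_right.mp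
      ((Sylow.normalizer_sup_eq_top Es).ge (Subgroup.mem_top (⟨w, hw⟩ : ↥N)))
    obtain ⟨f, hf, o, ho, rfl⟩ := hKO k hk
    have hnf : n * f ∈ normalizer (E : Set ↥N) := mul_mem hn (Subgroup.le_normalizer hf)
    have e' : ((n * f : ↥N) : G) * o = w := by
      rw [← Subgroup.coe_mul, mul_assoc]
      exact congrArg Subtype.val e
    exact e' ▸ absorb _ _ (hOfix o ho) (lift E (n * f) hlt hle hnf)
  -- `V` belongs to the family
  refine ⟨w, hM V ⟨hV0, hV, ⟨Rs, rfl⟩, ?_, ?_, ?_⟩ hw, fun a _ => rfl⟩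
  · -- `C(V)` has a normal complement to its central Sylow subgroup
    have hcentral : normalizer ((Qc : Subgroup ↥CN) : Set ↥CN) ≤ centralizer ((Qc : Subgroup ↥CN) : Set ↥CN) :=
      fun x _ => Subgroup.mem_centralizer_iff.mpr fun q hq => Subtype.ext (Subtype.ext (by
        have hqV : ((q : ↥N) : G) ∈ V := hQV ⟨q, hq, rfl⟩
        exact Subgroup.mem_centralizer_iff.mp (show ((x : ↥N) : G) ∈ centralizer (V : Set G) from x.2) _ hqV))
    have hcompl := MonoidHom.ker_transferSylow_isComplement' Qc hcentral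
    set C₀ := (MonoidHom.transferSylow Qc hcentral).ker
    have hC₀ : C₀.map CN.subtype ≤ O := by
      refine le_trans (Subgroup.map_mono ?_) (ZStar.map_pPrimeCore_le_of_normal CN)
      refine CfsgLib.le_oddCore ?_
      rw [Nat.odd_iff, ← Nat.two_dvd_ne_zero]
      exact MonoidHom.not_dvd_card_ker_transferSylow Qc hcentral
    intro x hx
    have hxN : x ∈ N := Subgroup.centralizer_le_normalizer _ hx
    refine ⟨⟨x, hxN⟩, ?_, rfl⟩
    have h2 : (⟨⟨x, hxN⟩, hx⟩ : ↥CN) ∈ (⊤ : Subgroup ↥CN) := Subgroup.mem_top _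
    rw [← hcompl.sup_eq_top] at h2
    obtain ⟨a, ha, b, hb, e⟩ := Subgroup.mem_sup_of_normal_left.mp h2
    show (⟨x, hxN⟩ : ↥N) ∈ K
    rw [show (⟨x, hxN⟩ : ↥N) = (a : ↥N) * b from (congrArg Subtype.val e).symm]
    exact mul_mem (hOK (hC₀ ⟨a, ha, rfl⟩)) (hVK (hQV ⟨b, hb, rfl⟩))
  · rw [eq_bot_iff, Subgroup.commutator_le]
    rintro _ ⟨o, ho, rfl⟩ v hv
    rw [Subgroup.mem_bot, commutatorElement_eq_one_iff_mul_comm]
    exact congrArg Subtype.val (hOV o ho ⟨v, hVN hv⟩ hv)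
  · refine le_antisymm (sup_le (Subgroup.map_mono hOK) ((le_of_eq hV'map.symm).trans (Subgroup.map_mono hVK))) ?_
    rintro _ ⟨k, hk, rfl⟩
    obtain ⟨e, he, o, ho, rfl⟩ := hKO k hk
    rw [map_mul]
    exact mul_mem (Subgroup.mem_sup_right (hEV ▸ he : e ∈ V')) (Subgroup.mem_sup_left ⟨o, ho, rfl⟩)

/-- **Control of strong fusion.** -/
theorem controls (hM : ∀ D ∈ agConjFamily (T : Subgroup G), normalizer (D : Set G) ≤ M) {A : Subgroup G} {g : G}
    (hA : A ≤ (T : Subgroup G)) (hg : cm g A ≤ (T : Subgroup G)) : Real M A g := by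
  haveI : Fact (Nat.Prime 2) := ⟨Nat.prime_two⟩
  exact real_of_chain (fchain_of_good T (goodSteps M) (Full 2 (T : Subgroup G)) (fun U hU => exists_full T hU)
    (fun _ _ h => h) (fun V hV hVf big w hw => .single ⟨hw, real_of_full T hM hV hVf big hw⟩ le_rfl) hA hg)

end CfsgLib.AGFusion
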