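import Cfsg.Prelude.Def_Quasithin
import Cfsg.Prelude.Def_QuasithinSetup
import Cfsg.Agent.Lib.AGFusion.Control
import Cfsg.Agent.S1169
import Cfsg.Agent.Lib.Bender.GoodAll
import Cfsg.Agent.Lib.Bender.ConsSimple

/-!
A QTKE group whose Alperin–Goldschmidt family normalisers lie in the unique maximal 2-local over a Sylow subgroup
is a Bender group.

Blueprint: `blueprint/S1847.md`.
-/

set_option autoImplicit false
set_option linter.unusedSectionVars false
set_option linter.style.haveILetI false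

universe u

namespace CfsgLib.AGFusion

open Cfsg Subgroup CfsgLib.StrongFusion

variable {G : Type u} [Group G] [Finite G] (T : Sylow 2 G) {M : Subgroup G}

/-- A 2-subgroup normalising `T` lies in `T`. -/
theorem le_of_normalizing {B : Subgroup G} (hB : IsPGroup 2 ↥B) (hn : B ≤ normalizer ((T : Subgroup G) : Set G)) :
    B ≤ (T : Subgroup G) := by
  have h := T.3 (IsPGroup.to_sup_of_normal_right' hB T.2 hn) le_sup_right
  exact h ▸ le_sup_left

/-- A 2-subgroup normalised by `M ≥ T` lies in `T`. -/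
theorem le_sylow_of_normalized (hTM : (T : Subgroup G) ≤ M) {U : Subgroup G} (hMU : M ≤ normalizer (U : Set G))
    (hU : IsPGroup 2 ↥U) : U ≤ (T : Subgroup G) := by
  have h := T.3 (IsPGroup.to_sup_of_normal_left' hU T.2 (hTM.trans hMU)) le_sup_right
  exact h ▸ le_sup_left

theorem stronglyClosed (hM : ∀ D ∈ agConjFamily (T : Subgroup G), normalizer (D : Set G) ≤ M)
    (hTM : (T : Subgroup G) ≤ M) {U : Subgroup G} (hMU : M ≤ normalizer (U : Set G)) (hU : IsPGroup 2 ↥U) :
    IsStronglyClosed U (T : Subgroup G) := by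
  refine ⟨le_sylow_of_normalized T hTM hMU hU, fun x hx g hgx => ?_⟩
  have hcm : cm g (Subgroup.zpowers x) ≤ (T : Subgroup G) :=
    Subgroup.map_le_iff_le_comap.mpr (Subgroup.zpowers_le.mpr hgx)
  obtain ⟨m, hm, h1⟩ := controls T hM (Subgroup.zpowers_le.mpr (le_sylow_of_normalized T hTM hMU hU hx)) hcm
  rw [← h1 x (Subgroup.mem_zpowers x)]
  exact (Subgroup.mem_normalizer_iff.mp (hMU hm) x).mp hx

theorem centralizer_le_of_abelian (hE : IsOfEvenCharacteristic G) (hT : IsMulCommutative (T : Subgroup G)) {t : G}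
    (ht : t ∈ (T : Subgroup G)) (h2 : orderOf t = 2) :
    centralizer ({t} : Set G) ≤ normalizer ((T : Subgroup G) : Set G) := by
  haveI : Fact (Nat.Prime 2) := ⟨Nat.prime_two⟩
  set N := normalizer ((Subgroup.zpowers t : Subgroup G) : Set G) with hN
  have hc : ∀ a ∈ (T : Subgroup G), ∀ b ∈ (T : Subgroup G), a * b = b * a := fun a ha b hb =>
    congrArg Subtype.val (hT.is_comm.comm ⟨a, ha⟩ ⟨b, hb⟩)
  have hcN : centralizer ({t} : Set G) ≤ N := by
    refine le_trans (le_of_eq ?_) (Subgroup.centralizer_le_normalizer _)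
    rw [Subgroup.zpowers_eq_closure, Subgroup.centralizer_closure]
  have hTN : (T : Subgroup G) ≤ N := fun a ha => hcN (Subgroup.mem_centralizer_singleton_iff.mpr (hc a ha t ht))
  have hloc : IsTwoLocal N := ⟨_, T.2.to_le (Subgroup.zpowers_le.mpr ht),
    fun e => by simp [Subgroup.zpowers_eq_bot.mp e] at h2, rfl⟩
  have hchar := hE N hloc ⟨T, hTN⟩
  set T' : Sylow 2 ↥N := T.subtype hTN
  have hmem : ∀ x : ↥N, x ∈ (T' : Subgroup ↥N) ↔ (x : G) ∈ (T : Subgroup G) := fun x => Iff.rfl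
  have hO := CfsgLib.pCore_le_sylow T'
  have hTO : (T' : Subgroup ↥N) ≤ pCore 2 ↥N := fun x hx => hchar (Subgroup.mem_centralizer_iff.mpr fun y hy =>
    Subtype.ext (hc _ ((hmem y).mp (hO hy)) _ ((hmem x).mp hx)))
  intro g hg
  have hn : (pCore 2 ↥N).Normal := inferInstance
  rw [le_antisymm hO hTO] at hn
  refine Subgroup.mem_normalizer_iff.mpr fun a => ⟨fun ha => ?_, fun ha => ?_⟩
  · exact (hmem _).mp (hn.conj_mem ⟨a, hTN ha⟩ ((hmem _).mpr ha) ⟨g, hcN hg⟩)
  · have := (hmem _).mp (hn.conj_mem ⟨_, hTN ha⟩ ((hmem _).mpr ha) (⟨g, hcN hg⟩ : ↥N)⁻¹)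
    simpa [mul_assoc] using this

theorem stronglyEmbedded_of_abelian [IsSimpleGroup G] (hG : ¬ IsMulCommutative G) (hE : IsOfEvenCharacteristic G)
    (hT : IsMulCommutative (T : Subgroup G)) (hT0 : (T : Subgroup G) ≠ ⊥) :
    IsStronglyEmbedded (normalizer ((T : Subgroup G) : Set G)) := by
  haveI : Fact (Nat.Prime 2) := ⟨Nat.prime_two⟩
  have hc : ∀ a ∈ (T : Subgroup G), ∀ b ∈ (T : Subgroup G), a * b = b * a := fun a ha b hb =>
    congrArg Subtype.val (hT.is_comm.comm ⟨a, ha⟩ ⟨b, hb⟩)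
  refine ⟨fun e => ?_, ?_, fun g hg => ?_⟩
  · haveI := Subgroup.normalizer_eq_top_iff.mp e
    rcases Subgroup.Normal.eq_bot_or_eq_top (inferInstance : (T : Subgroup G).Normal) with h | h
    · exact hT0 h
    · exact hG ⟨⟨fun a b => hc a (h ▸ Subgroup.mem_top a) b (h ▸ Subgroup.mem_top b)⟩⟩
  · obtain ⟨k, hk⟩ := IsPGroup.iff_card.mp T.2
    have hk0 : k ≠ 0 := fun e => hT0 (Subgroup.eq_bot_of_card_eq _ (by rw [hk, e, pow_zero]))
    exact even_iff_two_dvd.mpr (dvd_trans (hk ▸ dvd_pow_self 2 hk0)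
      (Subgroup.card_dvd_of_le Subgroup.le_normalizer))
  · rw [← Nat.not_even_iff_odd, even_iff_two_dvd]
    intro hd
    obtain ⟨u, hu⟩ := exists_prime_orderOf_dvd_card' 2 hd
    have hu2 : orderOf (u : G) = 2 := by rw [Subgroup.orderOf_coe]; exact hu
    obtain ⟨hu1, v, hv, huv⟩ := u.2
    change g * v * g⁻¹ = (u : G) at huv
    have hv2 : orderOf v = 2 := by
      have h := orderOf_injective (MulAut.conj g).toMonoidHom (MulAut.conj g).injective v
      rw [show (MulAut.conj g).toMonoidHom v = (u : G) from huv, hu2] at h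
      exact h.symm
    have hmem : ∀ x ∈ normalizer ((T : Subgroup G) : Set G), orderOf x = 2 → x ∈ (T : Subgroup G) := fun x hx h2 =>
      le_of_normalizing T (IsPGroup.of_card (p := 2) (n := 1) (by rw [Nat.card_zpowers, h2, pow_one]))
        (Subgroup.zpowers_le.mpr hx) (Subgroup.mem_zpowers x)
    have hvT := hmem v hv hv2
    have huT := hmem u hu1 hu2
    have hle : (T : Subgroup G).map (MulAut.conj g).toMonoidHom ≤ (T : Subgroup G) := by
      refine le_of_normalizing T (T.2.map _) ?_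
      rintro _ ⟨a, ha, rfl⟩
      refine centralizer_le_of_abelian T hE hT huT hu2 (Subgroup.mem_centralizer_singleton_iff.mpr ?_)
      change g * a * g⁻¹ * u = u * (g * a * g⁻¹)
      rw [← huv, show g * a * g⁻¹ * (g * v * g⁻¹) = g * (a * v) * g⁻¹ by group, hc a ha v hvT]
      group
    refine hg (Local.mem_normalizer_of_map_conj_eq ?_)
    exact Subgroup.eq_of_le_of_card_ge hle
      (Subgroup.card_map_of_injective (MulAut.conj g).injective).ge

theorem isBender_convert (h : CfsgLib.Bender.IsBenderGroup G) : Cfsg.IsBenderGroup G := by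
  rcases h with ⟨F, i1, i2, ⟨n, hn, hc⟩, e⟩ | hs | h
  · refine Or.inl ⟨F, i1, i2, charP_of_card_eq_prime_pow (f := n) hc, ?_, e⟩
    rw [hc]
    exact le_trans (by norm_num : 4 ≤ 2 ^ 2) (Nat.pow_le_pow_right two_pos hn)
  · exact Or.inr (Or.inr hs)
  · exact Or.inr (Or.inl h)

theorem main [IsSimpleGroup G] (hG : ¬ IsMulCommutative G) (hE : IsOfEvenCharacteristic G)
    (hM : maxTwoLocalsContaining (T : Subgroup G) = {M})
    (h : ∀ D ∈ agConjFamily (T : Subgroup G), normalizer (D : Set G) ≤ M) :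
    (∀ U : Subgroup G, U ≤ M → M ≤ normalizer (U : Set G) → IsPGroup 2 ↥U →
        IsStronglyClosed U (T : Subgroup G)) ∧
      Cfsg.IsBenderGroup G := by
  haveI : Fact (Nat.Prime 2) := ⟨Nat.prime_two⟩
  obtain ⟨⟨⟨Q, hQ, hQ0, hMQ⟩, -⟩, hTM⟩ : M ∈ maxTwoLocalsContaining (T : Subgroup G) :=
    hM.ge (Set.mem_singleton M)
  refine ⟨fun U _ hMU hU => stronglyClosed T h hTM hMU hU, isBender_convert ?_⟩
  set A := Q ⊓ centralizer (Q : Set G) with hAdef
  have hMA : M ≤ normalizer (A : Set G) := by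
    intro m hm
    rw [hMQ] at hm
    refine Subgroup.mem_normalizer_iff.mpr fun a => ?_
    have hq := Subgroup.mem_normalizer_iff.mp hm
    simp only [hAdef, Subgroup.mem_inf, Subgroup.mem_centralizer_iff, SetLike.mem_coe]
    refine and_congr (hq a) ⟨fun hc q hq' => ?_, fun hc q hq' => ?_⟩
    · have h1 := hc (m⁻¹ * q * m) ((hq _).mpr (by simpa [mul_assoc] using hq'))
      calc q * (m * a * m⁻¹) = m * (m⁻¹ * q * m * a) * m⁻¹ := by group
        _ = m * (a * (m⁻¹ * q * m)) * m⁻¹ := by rw [h1]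
        _ = _ := by group
    · have h1 := hc (m * q * m⁻¹) ((hq q).mp hq')
      calc q * a = m⁻¹ * (m * q * m⁻¹ * (m * a * m⁻¹)) * m := by group
        _ = m⁻¹ * (m * a * m⁻¹ * (m * q * m⁻¹)) * m := by rw [h1]
        _ = _ := by group
  have hA0 : A ≠ ⊥ := by
    haveI : Nontrivial ↥Q := (Subgroup.nontrivial_iff_ne_bot Q).mpr hQ0
    haveI := IsPGroup.center_nontrivial hQ
    obtain ⟨z, hz⟩ := exists_ne (1 : ↥(Subgroup.center ↥Q))
    refine fun e => hz (Subtype.ext (Subtype.ext (Subgroup.mem_bot.mp (e ▸ ?_ : ((z : ↥Q) : G) ∈ (⊥ : Subgroup G)))))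
    exact ⟨(z : ↥Q).2, Subgroup.mem_centralizer_iff.mpr fun q hq =>
      congrArg Subtype.val (Subgroup.mem_center_iff.mp z.2 ⟨q, hq⟩)⟩
  have hAc : IsMulCommutative A := ⟨⟨fun a b => Subtype.ext
    (Subgroup.mem_centralizer_iff.mp b.2.2 _ a.2.1)⟩⟩
  have hsc := stronglyClosed T h hTM hMA (hQ.to_le inf_le_left)
  obtain ⟨H, hH⟩ : ∃ H : Subgroup G, IsStronglyEmbedded H := by
    rcases Cfsg.Agent.S1169.result T A hA0 hAc hsc with hT | hH
    · exact ⟨_, stronglyEmbedded_of_abelian T hG hE hT fun e => hA0 (le_bot_iff.mp (e ▸ hsc.1))⟩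
    · exact hH
  exact CfsgLib.Bender.isBenderGroup_of_stronglyEmbedded
    (CfsgLib.Bender.Assembly.benderHyp CfsgLib.Bender.Assembly.goodAll) CfsgLib.Bender.Assembly.suzukiHyp hH

end CfsgLib.AGFusion
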